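import Groth.Agent.S6007

/-! The power maps of the multiplicative group are characters. -/

universe u

open CategoryTheory AlgebraicGeometry MonoidalCategory CartesianMonoidalCategory MonObj GrpObj

namespace Groth.Agent.StCoh16.Kummer

variable {S : Scheme.{u}}

theorem comp_chi (n : ℕ) {T : Over S} (x : T ⟶ Red.Gm S) : x ≫ Red.chi S (n : ℤ) = x ^ n := by
  refine (DiagGL.charsDS S ℤ).inj fun a => ?_
  have h1 : ∀ k : ℕ, (DiagGL.charsDS S ℤ).ch (x ^ (k + 1)) a = (DiagGL.charsDS S ℤ).ch x a ^ (k + 1) := by
    intro k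
    induction k with
    | zero => simp
    | succ k ih => rw [pow_succ, (DiagGL.charsDS S ℤ).mul, ih, ← pow_succ]
  refine (S6007.ch_DSmap _ x a).trans ?_
  rcases n with _ | k
  · have h2 := (DiagGL.charsDS S ℤ).mul (x ^ 0) x a
    rw [pow_zero, _root_.one_mul] at h2
    rw [pow_zero]
    have hu : IsUnit ((DiagGL.charsDS S ℤ).ch x a) := (Group.isUnit a).map _
    refine Eq.trans ?_ (hu.mul_right_cancel (h2.symm.trans (_root_.one_mul _).symm)).symm
    convert map_one ((DiagGL.charsDS S ℤ).ch x)
    apply Multiplicative.toAdd.injective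
    simp
  · rw [h1, ← map_pow]
    congr 1
    apply Multiplicative.toAdd.injective
    simp [_root_.mul_comm]

end Groth.Agent.StCoh16.Kummer
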