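import Groth.Prelude.Def_StCoh
import Groth.Agent.Lib.StCoh16.GmPow
import Groth.Agent.S12213
import Groth.Agent.Lib.FC16.Topology
import Mathlib.CategoryTheory.Sites.EpiMono
import Mathlib.Algebra.Homology.DerivedCategory.Ext.ExactSequences

/-! The Kummer sequence on the fppf site of a category fibred in groupoids. -/

universe u

open CategoryTheory CategoryTheory.Limits AlgebraicGeometry Opposite

set_option linter.style.haveILetI false
set_option backward.isDefEq.respectTransparency false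
set_option backward.isDefEq.respectTransparency.types false

namespace Groth.Agent.StCoh16.Kummer

open MonObj

variable {S : Scheme.{u}}

variable (𝒳 : AlgSt.Cat S)

/-- `n`-th roots exist fppf locally. -/
theorem isLocallySurjective_powMap [StCoh.BaseCont Scheme.fppfPrecoverage 𝒳] (h𝒳 : FibCat.IsFibGrpd 𝒳.p)
    (n : ℕ) (hn : 0 < n) :
    Sheaf.IsLocallySurjective (StCoh.powMap Scheme.fppfPrecoverage 𝒳 n) := by
  have hp : ∀ {x : 𝒳.obj} (b : (StCoh.Gm Scheme.fppfPrecoverage 𝒳).obj.obj (op x)),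
      (StCoh.powMap Scheme.fppfPrecoverage 𝒳 n).hom.app (op x) b = n • b := by
    intro x b
    clear hn
    induction n with
    | zero => simp [StCoh.powMap]
    | succ k ih =>
      have e : StCoh.powMap Scheme.fppfPrecoverage 𝒳 (k + 1) = StCoh.powMap Scheme.fppfPrecoverage 𝒳 k + 𝟙 _ := by
        simp [StCoh.powMap, succ_nsmul]
      rw [e, succ_nsmul, ← ih]
      rfl
  refine ⟨fun {x} s => ?_⟩
  obtain ⟨hf, hl, hs⟩ := S12213.chi_left_fppf (S := S) n hn
  let U := 𝒳.p.obj x
  let t : U ⟶ Red.Gm S := Additive.toMul s.down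
  let q := pullback.fst t.left (Red.chi S (n : ℤ)).left
  let W : Over S := Over.mk (q ≫ U.hom)
  let v : W ⟶ U := Over.homMk q rfl
  let r : W ⟶ Red.Gm S := Over.homMk (pullback.snd t.left (Red.chi S (n : ℤ)).left) (by
    show pullback.snd _ _ ≫ (Red.Gm S).hom = q ≫ U.hom
    rw [← Over.w t, ← Category.assoc, pullback.condition, Category.assoc, Over.w (Red.chi S (n : ℤ))])
  have hr : r ≫ Red.chi S (n : ℤ) = v ≫ t := Over.OverMorphism.ext pullback.condition.symm
  rw [FC16.mem_restrictedTopology_iff h𝒳]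
  refine (QuotSh.J Scheme.fppfPrecoverage S).superset_covering (S := Sieve.generate (Presieve.singleton v)) ?_ ?_
  · rw [Sieve.generate_le_iff]
    rintro _ _ ⟨⟩
    obtain ⟨z, φ, e, hφ⟩ := FC16.exists_map_eq h𝒳 v
    refine (FC16.push_iff h𝒳 _ φ e hφ).2 ⟨ULift.up (Additive.ofMul (eqToHom e ≫ r)), (hp _).trans ?_⟩
    refine ULift.ext _ _ ?_
    show n • Additive.ofMul (eqToHom e ≫ r) = Additive.ofMul (𝒳.p.map φ ≫ t)
    rw [hφ, ← ofMul_pow, ← comp_chi, Category.assoc, Category.assoc, hr]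
  · rw [GrothendieckTopology.mem_over_iff]
    refine GrothendieckTopology.superset_covering _ ?_
      (Precoverage.generate_mem_toGrothendieck (R := Presieve.singleton q) ?_)
    · rw [Sieve.generate_le_iff]
      rintro _ _ ⟨⟩
      exact (Sieve.overEquiv_iff _ _).2 (Sieve.le_generate _ _ _ (Presieve.singleton_self v))
    · rw [Scheme.fppfPrecoverage, Scheme.singleton_mem_precoverage_iff]
      exact ⟨(inferInstance : Surjective q).surj, inferInstance, inferInstance⟩

theorem kummer [StCoh.BaseCont Scheme.fppfPrecoverage 𝒳] (h𝒳 : FibCat.IsFibGrpd 𝒳.p) (n : ℕ) (hn : 0 < n) (d : ℕ) :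
    (Sheaf.H.map (StCoh.muι Scheme.fppfPrecoverage 𝒳 n) (d + 1)).range =
        (DistribSMul.toAddMonoidHom (StCoh.H Scheme.fppfPrecoverage (StCoh.Gm Scheme.fppfPrecoverage 𝒳) (d + 1)) n).ker ∧
      Nonempty ((Sheaf.H.map (StCoh.muι Scheme.fppfPrecoverage 𝒳 n) (d + 1)).ker ≃+
        StCoh.H Scheme.fppfPrecoverage (StCoh.Gm Scheme.fppfPrecoverage 𝒳) d ⧸
          (DistribSMul.toAddMonoidHom
            (StCoh.H Scheme.fppfPrecoverage (StCoh.Gm Scheme.fppfPrecoverage 𝒳) d) n).range) := by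
  haveI := isLocallySurjective_powMap 𝒳 h𝒳 n hn
  haveI : Epi (StCoh.powMap Scheme.fppfPrecoverage 𝒳 n) := (Sheaf.isLocallySurjective_iff_epi' _ _).1 ‹_›
  let T : ShortComplex (StCoh.Ab Scheme.fppfPrecoverage 𝒳) :=
    ShortComplex.mk (StCoh.muι Scheme.fppfPrecoverage 𝒳 n) (StCoh.powMap Scheme.fppfPrecoverage 𝒳 n)
      (kernel.condition _)
  have hT : T.ShortExact := ShortComplex.ShortExact.mk'
    (ShortComplex.exact_of_f_is_kernel _ (kernelIsKernel _)) inferInstance inferInstance
  have hmul : ∀ (j : ℕ) (x : StCoh.H Scheme.fppfPrecoverage (StCoh.Gm Scheme.fppfPrecoverage 𝒳) j),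
      x.comp (Abelian.Ext.mk₀ T.g) (add_zero j) = n • x := by
    intro j x
    have h0 : ∀ k : ℕ, x.comp (Abelian.Ext.mk₀ (k • 𝟙 (StCoh.Gm Scheme.fppfPrecoverage 𝒳))) (add_zero j) = k • x := by
      intro k
      induction k with
      | zero => simp
      | succ k ih => rw [succ_nsmul, succ_nsmul, Abelian.Ext.mk₀_add, Abelian.Ext.comp_add, ih, Abelian.Ext.comp_mk₀_id]
    exact h0 n
  constructor
  · ext x
    constructor
    · rintro ⟨y, rfl⟩
      rw [AddMonoidHom.mem_ker, DistribSMul.toAddMonoidHom_apply]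
      rw [← hmul]
      show (y.comp (Abelian.Ext.mk₀ T.f) (add_zero _)).comp (Abelian.Ext.mk₀ T.g) (add_zero _) = 0
      rw [Abelian.Ext.comp_assoc_of_second_deg_zero, Abelian.Ext.mk₀_comp_mk₀, T.zero, Abelian.Ext.mk₀_zero,
        Abelian.Ext.comp_zero]
    · intro hx
      exact Abelian.Ext.covariant_sequence_exact₂ _ hT x ((hmul _ x).trans hx)
  · let δ : StCoh.H Scheme.fppfPrecoverage (StCoh.Gm Scheme.fppfPrecoverage 𝒳) d →+
        StCoh.H Scheme.fppfPrecoverage T.X₁ (d + 1) :=
      hT.extClass.postcomp _ rfl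
    have hk : δ.ker = (DistribSMul.toAddMonoidHom
        (StCoh.H Scheme.fppfPrecoverage (StCoh.Gm Scheme.fppfPrecoverage 𝒳) d) n).range := by
      ext x
      constructor
      · intro hx
        obtain ⟨y, hy⟩ := Abelian.Ext.covariant_sequence_exact₃ _ hT x rfl hx
        exact ⟨y, (hmul _ y).symm.trans hy⟩
      · rintro ⟨y, rfl⟩
        show (n • y).comp hT.extClass rfl = 0
        rw [← hmul, Abelian.Ext.comp_assoc_of_second_deg_zero, hT.comp_extClass, Abelian.Ext.comp_zero]
    have hr : δ.range = (Sheaf.H.map (StCoh.muι Scheme.fppfPrecoverage 𝒳 n) (d + 1)).ker := by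
      ext x
      constructor
      · rintro ⟨y, rfl⟩
        show (y.comp hT.extClass rfl).comp (Abelian.Ext.mk₀ T.f) (add_zero _) = 0
        rw [Abelian.Ext.comp_assoc_of_third_deg_zero, hT.extClass_comp, Abelian.Ext.comp_zero]
      · intro hx
        exact Abelian.Ext.covariant_sequence_exact₁ _ hT x hx rfl
    exact ⟨((AddEquiv.addSubgroupCongr hr).symm.trans (QuotientAddGroup.quotientKerEquivRange δ).symm).trans
      (QuotientAddGroup.quotientAddEquivOfEq hk)⟩

end Groth.Agent.StCoh16.Kummer
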